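import Cfsg.Agent.MathieuOut.Check
import Cfsg.Agent.MathieuTwo.Split
set_option autoImplicit false

/-!
The two long checks of an automorphism certificate, block by block.
-/

namespace CfsgLib.MathieuOut

open Cfsg CfsgLib.Golay CfsgLib.MathieuTwo

/-- The part of the class check concerning the whole list. -/
def Cert.classHead (C : Cert) : Bool :=
  eqTab (mulTab C.b C.b) idT && eqTab (dec C.bc) C.b && Golay.gensOk [dec C.g0] C.fixd &&
  validTab (dec C.z) &&
  eqTab (mulTab (dec C.g0) (dec C.z)) (mulTab C.b (dec C.g0)) &&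
  Nat.beq C.pows.length (C.p + 1) &&
  ((List.range (C.p + 1)).all fun j => eqTab (dec (C.pows.getD j 0)) (powT C.a j)) &&
  C.cls.any (fun e => eqTab (dec e.1) C.b)

/-- The part of the class check concerning one entry. -/
def Cert.classElem (C : Cert) (e : ℕ × List (ℕ × ℕ)) : Bool :=
  Golay.gensOk [dec e.1] C.fixd &&
    (List.range C.p).all fun i =>
      Nat.blt (e.2.getD i (0, 0)).1 C.cls.length && Nat.blt (e.2.getD i (0, 0)).2 C.p &&
      keyPts.all fun q => Nat.beq (look C.bc (conjLook C.pows C.p e.1 i (look C.bc q)))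
        (conjLook C.pows C.p (C.cls.getD (e.2.getD i (0, 0)).1 (0, [])).1 (e.2.getD i (0, 0)).2 q)

theorem Cert.classOk_of_blocks {C : Cert} (w m : ℕ) (hl : C.cls.length ≤ w * m)
    (hh : C.classHead = true) (h : ∀ i < m, (block w i C.cls).all C.classElem = true) :
    C.classOk = true := by
  have hall : C.cls.all C.classElem = true := all_of_blocks w m _ hl h
  rw [Cert.classOk]
  simp only [Cert.classHead, Bool.and_eq_true] at hh ⊢
  exact ⟨hh, hall⟩

/-- The cases below one power, for a block of positions. -/
def Cert.casesBlock (C : Cert) (k off w j : ℕ) : Bool :=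
  (block w j (List.range C.cls.length)).all fun i =>
    C.caseOk k (C.cls.getD i (0, [])).1 (C.verd.getD (off + i) (.same C.psis.length))

theorem Cert.casesOk_of_blocks {C : Cert} (w m : ℕ) (hl : C.cls.length ≤ w * m)
    (hr : C.rels.all (fun e => eqTab (powT (evalW C.a C.b e.1) e.2) idT) = true)
    (h1 : ∀ j < m, C.casesBlock 1 0 w j = true)
    (h2 : ∀ j < m, C.casesBlock (C.p - 1) C.cls.length w j = true) :
    C.casesOk = true := by
  have hlen : (List.range C.cls.length).length ≤ w * m := by rwa [List.length_range]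
  have a1 := all_of_blocks w m _ hlen h1
  have a2 := all_of_blocks w m _ hlen h2
  simp only [Nat.zero_add] at a1
  rw [Cert.casesOk]
  simp only [Bool.and_eq_true]
  exact ⟨⟨hr, a1⟩, a2⟩

end CfsgLib.MathieuOut
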